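import Cfsg.Agent.H35.Fi24T.Y5V3.RTab0

set_option autoImplicit false
set_option linter.all false

namespace Cfsg.Agent.H35

open Cfsg.Spor

noncomputable def y5v3_rrowT : ℕ → ℕ := y5v3_rrowT_c0

noncomputable def y5v3_circT_c0 : ℕ → List Fi24.Gen := (nd 32 (nd 16 (nd 8 (nd 4 (nd 2 (nd 1 (lf [.k]) (lf [.g])) (nd 3 (lf [.j]) (lf [.i]))) (nd 6 (nd 5 (lf [.b, .l, .b, .l]) (lf [.c, .l, .c, .l])) (nd 7 (lf [.d, .l, .d, .l]) (lf [.e, .l, .e, .l])))) (nd 12 (nd 10 (nd 9 (lf [.f, .l, .f, .l]) (lf [.h, .l, .h, .l])) (nd 11 (lf [.c, .a, .c, .a]) (lf [.d, .a, .d, .a]))) (nd 14 (nd 13 (lf [.e, .a, .e, .a]) (lf [.f, .a, .f, .a])) (nd 15 (lf [.h, .a, .h, .a]) (lf [.l, .a, .l, .a]))))) (nd 24 (nd 20 (nd 18 (nd 17 (lf [.l, .l]) (lf [.a, .b, .a, .b, .a, .b])) (nd 19 (lf [.d, .b, .d, .b]) (lf [.e, .b, .e, .b]))) (nd 22 (nd 21 (lf [.f, .b, .f, .b]) (lf [.h, .b, .h, .b])) (nd 23 (lf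 [.l, .b, .l, .b]) (lf [.a, .c, .a, .c])))) (nd 28 (nd 26 (nd 25 (lf [.b, .c, .b, .c, .b, .c]) (lf [.e, .c, .e, .c])) (nd 27 (lf [.f, .c, .f, .c]) (lf [.h, .c, .h, .c]))) (nd 30 (nd 29 (lf [.l, .c, .l, .c]) (lf [.a, .d, .a, .d])) (nd 31 (lf [.b, .d, .b, .d]) (lf [.c, .d, .c, .d, .c, .d])))))) (nd 48 (nd 40 (nd 36 (nd 34 (nd 33 (lf [.f, .d, .f, .d]) (lf [.l, .d, .l, .d])) (nd 35 (lf [.a, .e, .a, .e]) (lf [.b, .e, .b, .e]))) (nd 38 (nd 37 (lf [.c, .e, .c, .e]) (lf [.d, .e, .d, .e, .d, .e])) (nd 39 (lf [.a, .h, .a, .h]) (lf [.b, .h, .b, .h])))) (nd 44 (nd 42 (nd 41 (lf [.c, .h, .c, .h]) (lf [.d, .h, .d, .h, .d, .h])) (nd 43 (lf [.f, .h, .f, .h]) (lf [.l, .e, .l, .e]))) (nd 46 (nd 45 (lf [.l, .h, .l, .h]) (lf [.a, .f, .a, .f])) (nd 47 (lf [.b, .f, .b, .f]) (lf [.c, .f, .c, .f]))))) (nd 56 (nd 52 (nd 50 (nd 49 (lf [.d, .f, .d, .f]) (lf [.e, .f, .e, .f, .e, .f])) (nd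 51 (lf [.e, .h, .e, .h]) (lf [.e, .e]))) (nd 54 (nd 53 (lf [.l, .f, .l, .f]) (lf [.f, .f])) (nd 55 (lf [.e, .d, .e, .d, .e, .d]) (lf [.h, .d, .h, .d, .h, .d])))) (nd 60 (nd 58 (nd 57 (lf [.d, .c, .d, .c, .d, .c]) (lf [.f, .e, .f, .e, .f, .e])) (nd 59 (lf [.h, .e, .h, .e]) (lf [.c, .b, .c, .b, .c, .b]))) (nd 62 (nd 61 (lf [.c, .c]) (lf [.b, .a, .b, .a, .b, .a])) (nd 63 (lf [.b, .b]) (lf [.a, .a])))))))
noncomputable def y5v3_circT_c1 : ℕ → List Fi24.Gen := (nd 65 (lf [.c, .b, .a, .h, .f, .e, .d, .c, .b, .a, .h, .f, .e, .d, .c, .b, .a, .h, .f, .e, .d, .c, .b, .a, .h, .f, .e, .d, .c, .b, .a, .h, .f, .e, .d, .c, .b, .a, .h, .f, .e, .d, .c, .b, .a, .h, .f, .e, .d, .c, .b, .a, .h, .f, .e, .d, .c, .b, .a, .l, .h, .f, .e, .d]) (lf [.h, .h]))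
noncomputable def y5v3_circT : ℕ → List Fi24.Gen := (nd 64 y5v3_circT_c0 y5v3_circT_c1)
def y5v3_ccert : List (ℕ × ℕ × Bool) := [(65, 0, false), (66, 0, false), (67, 0, false), (68, 0, false), (2, 1, false), (3, 1, false), (4, 1, false), (5, 1, false), (6, 1, false), (7, 1, false), (11, 1, false), (12, 1, false), (13, 1, false), (14, 1, false), (15, 1, false), (1, 0, false), (0, 0, false), (10, 0, false), (20, 1, false), (21, 1, false), (22, 1, false), (23, 1, false), (2, 0, false), (11, 0, false), (19, 0, false), (29, 1, false), (30, 1, false), (31, 1, false), (3, 0, false), (12, 0, false), (20, 0, false), (28, 0, false), (38, 1, false), (4, 0, false), (13, 0, false), (21, 0, false), (29, 0, false), (37, 0, false), (15, 0, false), (23, 0, false), (31, 0, false), (39, 0, false), (55, 0, false), (5, 0, false), (7, 0, false), (14, 0, false), (22, 0, false), (30,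 0, false), (38, 0, false), (46, 0, false), (47, 0, false), (45, 0, false), (6, 0, false), (54, 0, false), (37, 1, false), (39, 1, false), (28, 1, false), (46, 1, false), (47, 1, false), (19, 1, false), (27, 0, false), (10, 1, false), (18, 0, false), (9, 0, false), (64, 5, false), (63, 0, false)]
noncomputable def y5v3_hc1T_c0 : ℕ → List Fi24.Gen := (nd 3 (nd 1 (lf [.b]) (nd 2 (lf [.c]) (lf [.d]))) (nd 4 (lf [.e]) (nd 5 (lf [.f]) (lf [.h]))))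
noncomputable def y5v3_hc1T : ℕ → List Fi24.Gen := y5v3_hc1T_c0
noncomputable def y5v3_hc2T_c0 : ℕ → List Fi24.Gen := (nd 3 (nd 1 (lf []) (nd 2 (lf []) (lf []))) (nd 4 (lf []) (nd 5 (lf []) (lf []))))
noncomputable def y5v3_hc2T : ℕ → List Fi24.Gen := y5v3_hc2T_c0

noncomputable def y5v3_rd : RData Fi24.Gen := ⟨wrapRow 56 y5v3_rrowT, 56, 56, fi24_gi, fi24_gof, fi24_gens, circTab 66 y5v3_circT, circTab 6 y5v3_hc1T, circTab 6 y5v3_hc2T, 1⟩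
noncomputable def y5v3_rf (p : ℕ) : Bool := y5v3_rd.chk p
def y5v3_rsw : List (List Fi24.Gen) := [[.b], [.c], [.d], [.e], [.f], [.h]]

end Cfsg.Agent.H35
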